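import Groth.Agent.CD47.Descend
import Groth.Agent.An92.Ample.Resolution
import Groth.Agent.Amp73.Ample
import Groth.Agent.Amp73.Powers
import Groth.Agent.Div89.NormalSheaf
import Groth.Prelude.Def_ClSub2

/-! Coherent modules are quotients of sums of high negative powers of an ample module. -/

set_option autoImplicit false

universe u

open CategoryTheory CategoryTheory.Limits AlgebraicGeometry Opposite TopologicalSpace

noncomputable section

namespace Groth.Agent.CD47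

variable {X : Scheme.{u}}

/-- The middle-four interchange. -/
def tensInterchange (A B C D : X.Modules) :
    CohB1.tensorMod (CohB1.tensorMod A B) (CohB1.tensorMod C D) ≅
      CohB1.tensorMod (CohB1.tensorMod A C) (CohB1.tensorMod B D) :=
  EGA73.tensAssoc' A B _ ≪≫ EGA73.tensIso (Iso.refl A)
      ((EGA73.tensAssoc' B C D).symm ≪≫ EGA73.tensIso (EGA73.tensComm B C) (Iso.refl D) ≪≫
        EGA73.tensAssoc' C B D) ≪≫
    (EGA73.tensAssoc' A C _).symm

theorem isInverseOf_tensorPow {L M : X.Modules} (h : ClSub.IsInverseOf M L) :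
    ∀ n : ℕ, Nonempty (CohB1.tensorMod (CohB1.tensorPow M n) (CohB1.tensorPow L n) ≅ Coh.structureModule X)
  | 0 => ⟨EGA73.tensUnitLeft (Coh.structureModule X)⟩
  | n + 1 => by
    obtain ⟨e⟩ := isInverseOf_tensorPow h n
    obtain ⟨f⟩ := h
    exact ⟨tensInterchange _ M _ L ≪≫ EGA73.tensIso e f ≪≫ EGA73.tensUnitLeft _⟩

/-- Every coherent module is a quotient of a finite sum of high negative powers of an ample module. -/
theorem exists_epi_negPow [QuasiSeparatedSpace X] {L M : X.Modules} (hL : CohB1.IsAmple L)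
    (hM : ClSub.IsInverseOf M L) (m₀ : ℕ) (F : X.Modules) (hF : Coh.IsCoh F) :
    ∃ (c : ℕ) (a : Fin c → ℕ) (P : Fin c → X.Modules) (π : ⨁ P ⟶ F),
      (∀ j, m₀ ≤ a j ∧ Nonempty (P j ≅ CohB1.tensorPow M (a j))) ∧ FlatMod.IsFinLocFree (⨁ P) ∧ Epi π := by
  have hL' := (Amp73.isAmple_tensorPow_iff hL.1 (Nat.succ_pos m₀)).1 hL
  have hfam : KSix.IsAmpleFamily (fun _ : PUnit.{u + 1} => CohB1.tensorPow L (m₀ + 1)) := by
    refine ⟨hL'.2.1, inferInstance, fun _ => hL'.1, fun x => ?_⟩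
    obtain ⟨n, s, hs⟩ := hL'.2.2 x
    exact ⟨PUnit.unit, n, s, hs⟩
  obtain ⟨E, π, ⟨c, N, hN, ⟨e⟩⟩, hE, hπ⟩ := An92.AmpleRes.exists_epi_inAddL _ hfam F hF.1 hF.2
  choose i a ha b using hN
  refine ⟨c, fun j => (m₀ + 1) * a j, N, e.inv ≫ π, fun j => ⟨?_, ?_⟩, ?_, epi_comp _ _⟩
  · exact (Nat.le_succ m₀).trans (Nat.le_mul_of_pos_right _ (ha j))
  · obtain ⟨b⟩ := b j
    obtain ⟨d⟩ := isInverseOf_tensorPow hM ((m₀ + 1) * a j)
    exact Div89.inverse_unique (L := CohB1.tensorPow L ((m₀ + 1) * a j))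
      (EGA73.tensIso (Iso.refl _) (Amp73.powMul L (m₀ + 1) (a j)).symm ≪≫ b) d
  · exact fun x => by
      obtain ⟨U, n, hx, ⟨q⟩⟩ := hE x
      exact ⟨U, n, hx, ⟨(Scheme.Modules.restrictFunctor U.ι).mapIso e.symm ≪≫ q⟩⟩

end Groth.Agent.CD47
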