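import Groth.Agent.CD47.Descend
import Groth.Agent.S4271
import Groth.Agent.S4270
import Groth.Agent.Props58.LocFree.Criteria
import Groth.Agent.Props58.LocFree.Affine

/-! Coherent modules on regular separated schemes are quotients of locally free ones. -/

set_option autoImplicit false

universe u

open CategoryTheory CategoryTheory.Limits AlgebraicGeometry Opposite TopologicalSpace

noncomputable section

namespace Groth.Agent.CD47

theorem isCoh_of_isFinLocFree {X : Scheme.{u}} {M : X.Modules} (h : FlatMod.IsFinLocFree M) : Coh.IsCoh M :=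
  ⟨Props58.LocFree.isQuasicoherent_of_isFinLocFree h, Props58.LocFree.isFiniteType_of_isFinLocFree h⟩

theorem exists_epi_finLocFree {X : Scheme.{u}} [IsNoetherian X] [X.IsSeparated]
    (hreg : ∀ x : X, IsRegularLocalRing (X.presheaf.stalk x)) (F : X.Modules) (hF : Coh.IsCoh F) :
    ∃ (E : X.Modules) (π : E ⟶ F), FlatMod.IsFinLocFree E ∧ Coh.IsCoh E ∧ Epi π := by
  obtain ⟨E, π, hE, hπ⟩ := Groth.Agent.S4270.result X
    (Groth.Agent.S4271.result X hreg fun U V hU hV => hU.inf hV) F hF.1 hF.2
  exact ⟨E, π, hE, isCoh_of_isFinLocFree hE, hπ⟩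

theorem isSeparated_of_over {k : Type u} [Field k] {X : Scheme.{u}} [X.Over (Spec (CommRingCat.of k))]
    [IsSeparated (X ↘ Spec (CommRingCat.of k))] : X.IsSeparated :=
  ⟨by rw [← terminal.comp_from (X ↘ Spec (CommRingCat.of k))]; infer_instance⟩

theorem isNoetherian_of_over {k : Type u} [Field k] {X : Scheme.{u}} [X.Over (Spec (CommRingCat.of k))]
    [LocallyOfFiniteType (X ↘ Spec (CommRingCat.of k))] [QuasiCompact (X ↘ Spec (CommRingCat.of k))] :
    IsNoetherian X := by
  have : IsLocallyNoetherian X := LocallyOfFiniteType.isLocallyNoetherian (X ↘ Spec (CommRingCat.of k))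
  have : CompactSpace X := QuasiCompact.compactSpace_of_compactSpace (X ↘ Spec (CommRingCat.of k))
  exact {}

end Groth.Agent.CD47
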