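import Groth.Agent.Crv77.HH
import Groth.Agent.Crv77.Bound
import Groth.Agent.QC70.CohOps
import Groth.Agent.An92.Ample.Resolution
import Mathlib.RingTheory.Noetherian.Basic

/-! Descending induction for cohomological vanishing / finiteness of coherent modules. -/

set_option autoImplicit false

universe u

open CategoryTheory CategoryTheory.Limits AlgebraicGeometry Opposite TopologicalSpace

noncomputable section

namespace Groth.Agent.CD47

open Crv77

variable {A : Type u} [CommRing A] {X : Scheme.{u}} [X.Over (Spec (CommRingCat.of A))]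

/-- The short exact sequence of an epimorphism. -/
theorem shortExact_kernel {M N : X.Modules} (φ : M ⟶ N) [Epi φ] :
    (ShortComplex.mk (kernel.ι φ) φ (kernel.condition φ)).ShortExact :=
  { exact := ShortComplex.exact_of_f_is_kernel _ (kernelIsKernel _) }

/-- Descending induction: vanishing in degrees above `r`. -/
theorem subsingleton_of_exists_epi [IsNoetherian X] [QuasiSeparatedSpace X] (r : ℕ)
    (hE : ∀ F : X.Modules, Coh.IsCoh F → ∃ (E : X.Modules) (π : E ⟶ F), Coh.IsCoh E ∧ Epi π ∧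
      ∀ i, r < i → Subsingleton (Coh.HH X E i))
    (F : X.Modules) (hF : Coh.IsCoh F) (i : ℕ) (hi : r < i) : Subsingleton (Coh.HH X F i) := by
  let _ : X.Over (Spec (CommRingCat.of (Γ(X, ⊤)))) := ⟨X.toSpecΓ⟩
  obtain ⟨d, hd⟩ := Crv77.exists_bound_HH (X := X)
  induction h : d - i generalizing F i with
  | zero => exact hd F hF.1 i (by omega)
  | succ m ih =>
    obtain ⟨E, π, hEc, hπ, hEv⟩ := hE F hF
    have := ih (kernel π) (QC70.isCoh_kernel π hEc hF.1) (i + 1) (by omega) (by omega)
    have := hEv i hi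
    refine ⟨fun x y => ?_⟩
    have key : ∀ z : Coh.HH X F i, z = 0 := fun z => by
      obtain ⟨e, he⟩ := (exact_g_δ (Γ(X, ⊤)) (shortExact_kernel π) i z).1 (Subsingleton.elim _ _)
      rw [← he, Subsingleton.elim e 0, map_zero]
    rw [key x, key y]

/-- Descending induction: finiteness in degrees above `r`. -/
theorem finite_of_exists_epi [IsNoetherianRing A] [IsNoetherian X] [QuasiSeparatedSpace X] (r : ℕ)
    (hE : ∀ F : X.Modules, Coh.IsCoh F → ∃ (E : X.Modules) (π : E ⟶ F), Coh.IsCoh E ∧ Epi π ∧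
      ∀ i, r < i → Module.Finite A (Coh.HH X E i))
    (F : X.Modules) (hF : Coh.IsCoh F) (i : ℕ) (hi : r < i) : Module.Finite A (Coh.HH X F i) := by
  obtain ⟨d, hd⟩ := Crv77.exists_bound_HH (X := X)
  induction h : d - i generalizing F i with
  | zero =>
    have := hd F hF.1 i (by omega)
    infer_instance
  | succ m ih =>
    obtain ⟨E, π, hEc, hπ, hEv⟩ := hE F hF
    have h1 := ih (kernel π) (QC70.isCoh_kernel π hEc hF.1) (i + 1) (by omega) (by omega)
    have h2 := hEv i hi
    have : _root_.IsNoetherian A (Coh.HH X E i) := inferInstance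
    have : _root_.IsNoetherian A (Coh.HH X (kernel π) (i + 1)) := inferInstance
    have := isNoetherian_of_range_eq_ker (hmap A π i) (hδ A (shortExact_kernel π) i)
      (exact_g_δ A (shortExact_kernel π) i).linearMap_ker_eq.symm
    infer_instance

theorem hmap_finset_sum {ι : Type*} (s : Finset ι) {M N : X.Modules} (φ : ι → (M ⟶ N)) (n : ℕ)
    (x : Coh.HH X M n) : hmap A (∑ j ∈ s, φ j) n x = ∑ j ∈ s, hmap A (φ j) n x := by
  let h : (M ⟶ N) →+ Coh.HH X N n := AddMonoidHom.mk' (fun ψ => hmap A ψ n x) fun a b => by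
    show Abelian.Ext.comp x (Abelian.Ext.mk₀ ((toAbF X).map (a + b))) (add_zero n) =
      Abelian.Ext.comp x (Abelian.Ext.mk₀ ((toAbF X).map a)) (add_zero n) +
      Abelian.Ext.comp x (Abelian.Ext.mk₀ ((toAbF X).map b)) (add_zero n)
    refine (congrArg (fun f => Abelian.Ext.comp x (Abelian.Ext.mk₀ f) (add_zero n)) ((toAbF X).map_add (f := a) (g := b))).trans ?_
    exact (congrArg (fun e => Abelian.Ext.comp x e (add_zero n)) (Abelian.Ext.mk₀_add _ _)).trans (Abelian.Ext.comp_add _ _ _ _)
  exact map_sum h φ s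

theorem hmap_eq_zero_of_subsingleton {k : ℕ} (P : Fin k → X.Modules) (n : ℕ)
    (h : ∀ j, Subsingleton (Coh.HH X (P j) n)) : Subsingleton (Coh.HH X (⨁ P) n) := by
  let _ : X.Over (Spec (CommRingCat.of (Γ(X, ⊤)))) := ⟨X.toSpecΓ⟩
  refine ⟨fun x y => ?_⟩
  have key : ∀ z : Coh.HH X (⨁ P) n, z = 0 := fun z => by
    rw [← hmap_id (Γ(X, ⊤)) (⨁ P) n z, ← biproduct.total (f := P), hmap_finset_sum]
    refine Finset.sum_eq_zero fun j _ => ?_
    rw [← hmap_comp (Γ(X, ⊤)), (h j).elim (hmap (Γ(X, ⊤)) _ n z) 0, map_zero]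
  rw [key x, key y]

end Groth.Agent.CD47
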